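import Cfsg.Agent.H595.Triple
import Cfsg.Agent.H692.Rel.Par

/-!
# Reduction to central characters (helper692, for S4986)

`exists_central`: for a normal subgroup `N` of `G` and an invariant `θ ∈ Irr(N)` there are `Q`, a
central subgroup `Z` with `Q ⧸ Z ≃* G ⧸ N` and a linear character `l` of `Z` such that the
irreducible characters `β` of `Q` over `l` give irreducible characters of `G` restricting to `β 1 • θ`.
-/

set_option autoImplicit false

namespace Cfsg.Agent.H692.Rel

open Cfsg Cfsg.Agent.Characters.Core Subgroup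
open Cfsg.Agent.H595.Triple Cfsg.Agent.H595.Central Cfsg.Agent.H595.Count

universe u

variable {G : Type u} [Group G]

theorem exists_central [Finite G] (N : Subgroup G) [hN : N.Normal] (θ : IrrCharacter N)
    (hinv : CInv N (θ : N → ℂ)) :
    ∃ (Q : Type u) (_ : Group Q) (_ : Finite Q) (Z : Subgroup Q) (_ : Z.Normal) (l : Z →* ℂˣ),
      Z ≤ Subgroup.center Q ∧ Nonempty ((Q ⧸ Z) ≃* (G ⧸ N)) ∧
      ∀ β : Q → ℂ, IsIrrCharacter Q β → Ov Z l β →
        ∃ χ : G → ℂ, IsIrrCharacter G χ ∧ ∀ n : N, χ n = β 1 * (θ : N → ℂ) n := by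
  obtain ⟨Δ, _, _, π, s, χR, h⟩ := exists_cov N θ hinv
  have hLn := h.normal
  let L : Subgroup Δ := s.range
  let mk : Δ →* Δ ⧸ L := QuotientGroup.mk' L
  have hmk : Function.Surjective mk := QuotientGroup.mk'_surjective L
  have hkmk : mk.ker = L := QuotientGroup.ker_mk' L
  let Z : Subgroup (Δ ⧸ L) := π.ker.map mk
  have hZn : Z.Normal := (inferInstance : π.ker.Normal).map mk hmk
  have hZc : Z ≤ Subgroup.center (Δ ⧸ L) := by
    rintro _ ⟨z, hz, rfl⟩
    rw [Subgroup.mem_center_iff]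
    intro q
    obtain ⟨x, rfl⟩ := hmk q
    rw [← map_mul, ← map_mul, Subgroup.mem_center_iff.1 (h.ker_le hz) x]
  have hZcomap : Z.comap mk = N.comap π := by
    rw [Subgroup.comap_map_eq, hkmk]
    apply le_antisymm
    · refine sup_le (fun x hx => ?_) ?_
      · show π x ∈ N
        rw [MonoidHom.mem_ker.1 hx]
        exact one_mem N
      · rintro _ ⟨n, rfl⟩
        show π (s n) ∈ N
        rw [h.section_]
        exact n.2
    · intro x hx
      obtain ⟨n, z, hz, rfl⟩ := h.comap_eq x hx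
      exact mul_mem (Subgroup.mem_sup_right ⟨n, rfl⟩) (Subgroup.mem_sup_left hz)
  -- the linear character of `Z`
  obtain ⟨c, hc, -⟩ := Cfsg.Agent.CharactersDeep.Extraspecial.exists_central_hom h.irr
  let c' : π.ker →* ℂˣ := c.comp (Subgroup.inclusion h.ker_le)
  have hc' : ∀ (x : Δ) (z : π.ker), χR (x * z) = χR x * c' z := fun x z =>
    hc x (Subgroup.inclusion h.ker_le z)
  let f : π.ker →* Z := (mk.comp π.ker.subtype).codRestrict Z (fun z => ⟨z, z.2, rfl⟩)
  have hfb : Function.Bijective f := by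
    constructor
    · rw [injective_iff_map_eq_one]
      intro z hz
      have h1 : mk (z : Δ) = 1 := congrArg (fun y : Z => (y : Δ ⧸ L)) hz
      have h2 : (z : Δ) ∈ L := (QuotientGroup.eq_one_iff _).1 h1
      exact Subtype.ext (h.disj (MonoidHom.mem_ker.1 z.2) h2)
    · rintro ⟨_, z, hz, rfl⟩
      exact ⟨⟨z, hz⟩, rfl⟩
  let e : π.ker ≃* Z := MulEquiv.ofBijective f hfb
  let l : Z →* ℂˣ := (c'⁻¹).comp e.symm.toMonoidHom
  have hl : ∀ z : π.ker, l (e z) = (c' z)⁻¹ := by
    intro z
    show (c'⁻¹) (e.symm (e z)) = _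
    rw [e.symm_apply_apply]
    rfl
  refine ⟨Δ ⧸ L, inferInstance, inferInstance, Z, hZn, l, hZc, ?_, ?_⟩
  · let g1 : Δ →* (Δ ⧸ L) ⧸ Z := (QuotientGroup.mk' Z).comp mk
    let g2 : Δ →* G ⧸ N := (QuotientGroup.mk' N).comp π
    have h1 : Function.Surjective g1 := (QuotientGroup.mk'_surjective Z).comp hmk
    have h2 : Function.Surjective g2 := (QuotientGroup.mk'_surjective N).comp h.surj
    have hk : g1.ker = g2.ker := by
      have e1 : g1.ker = Z.comap mk := by
        ext x
        exact QuotientGroup.eq_one_iff _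
      have e2 : g2.ker = N.comap π := by
        ext x
        exact QuotientGroup.eq_one_iff _
      rw [e1, e2, hZcomap]
    exact ⟨(QuotientGroup.quotientKerEquivOfSurjective g1 h1).symm.trans
      ((QuotientGroup.quotientMulEquivOfEq hk).trans
        (QuotientGroup.quotientKerEquivOfSurjective g2 h2))⟩
  · intro β hβ hov
    have hirr : IsIrrCharacter Δ (fun x => β (mk x) * χR x) := by
      have hχN : IsIrrCharacter N (fun n => χR (s n)) := by
        have : (fun n => χR (s n)) = (θ : N → ℂ) := funext h.ext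
        rw [this]
        exact θ.2
      let s'' : N →* L := s.codRestrict L (fun n => ⟨n, rfl⟩)
      refine isIrr_mul_inflate L (χ := χR) h.irr
        (isIrr_of_comp s'' (isCharacter_comp L.subtype (isIrr_isCharacter h.irr)) hχN)
        (isIrr_comp mk hmk hβ) ?_
      intro x hx
      have h1 : mk x = 1 := (QuotientGroup.eq_one_iff _).2 hx
      show β (mk x) = β (mk 1)
      rw [h1, map_one]
    let ψ : IrrCharacter Δ := ⟨_, hirr⟩
    have hψ : ∀ x, (ψ : Δ → ℂ) x = β (mk x) * χR x := fun _ => rfl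
    obtain ⟨χ, hχ⟩ := descend π h.surj ψ (by
      intro x k hk
      have h1 : mk k = ((e ⟨k, hk⟩ : Z) : Δ ⧸ L) := rfl
      rw [hψ, hψ, map_mul, h1, hov, hl]
      have h2 : χR (x * k) = χR x * c' ⟨k, hk⟩ := hc' x ⟨k, hk⟩
      rw [h2, Units.val_inv_eq_inv_val]
      have h3 : ((c' ⟨k, hk⟩ : ℂˣ) : ℂ) ≠ 0 := Units.ne_zero _
      field_simp)
    refine ⟨χ, χ.2, fun n => ?_⟩
    have h1 : (n : G) = π (s n) := (h.section_ n).symm
    rw [h1, hχ, hψ]
    have h2 : mk (s n) = 1 := (QuotientGroup.eq_one_iff _).2 ⟨n, rfl⟩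
    rw [h2, h.ext]

end Cfsg.Agent.H692.Rel
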